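import Groth.Prelude.Def_AlgGrp
import Groth.Prelude.Def_ChGrp
import Groth.Prelude.Def_NonAbH2
import Groth.Agent.AlgGrp79.Act
import Mathlib.AlgebraicGeometry.Sites.Fpqc

/-!
Composition of torsors along a split extension.
-/

set_option autoImplicit false
set_option linter.style.haveILetI false

universe u

open CategoryTheory CategoryTheory.Limits MonoidalCategory CartesianMonoidalCategory MonObj AlgebraicGeometry
open Groth.Agent.AlgGrp79

namespace Groth.Agent.GIT36.Torsor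

variable {S : Scheme.{u}} {G N Q H X Y Z : Over S} [GrpObj G] [GrpObj N] [GrpObj Q] [GrpObj H]

/-- A pseudo-torsor in terms of points. -/
theorem isPullback_of_existsUnique (a : AlgGrp.Action G X) (φ : X ⟶ Y) (h : a.act ≫ φ = snd G X ≫ φ)
    (hu : ∀ (T : Over S) (x₁ x₂ : T ⟶ X), x₁ ≫ φ = x₂ ≫ φ → ∃! g : T ⟶ G, lift g x₂ ≫ a.act = x₁) :
    IsPullback a.act (snd G X) φ φ := by
  refine ⟨⟨h⟩, ⟨PullbackCone.IsLimit.mk h (fun s => lift ((hu _ s.fst s.snd s.condition).exists.choose) s.snd)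
    (fun s => (hu _ s.fst s.snd s.condition).exists.choose_spec) (fun s => lift_snd _ _) ?_⟩⟩
  intro s m h₁ h₂
  have hm : m = lift (m ≫ fst G X) s.snd := by
    rw [← h₂, ← comp_lift, lift_fst_snd, Category.comp_id]
  rw [hm]
  congr 1
  refine (hu _ s.fst s.snd s.condition).unique ?_ (hu _ s.fst s.snd s.condition).exists.choose_spec
  rw [← hm, h₁]

theorem existsUnique_of_isPullback (a : AlgGrp.Action G X) {φ : X ⟶ Y} (h : IsPullback a.act (snd G X) φ φ)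
    {T : Over S} (x₁ x₂ : T ⟶ X) (e : x₁ ≫ φ = x₂ ≫ φ) : ∃! g : T ⟶ G, lift g x₂ ≫ a.act = x₁ := by
  refine ⟨h.lift x₁ x₂ e ≫ fst G X, ?_, fun g hg => ?_⟩
  · dsimp only
    rw [show lift (h.lift x₁ x₂ e ≫ fst G X) x₂ = h.lift x₁ x₂ e by
      conv_rhs => rw [← Category.comp_id (h.lift x₁ x₂ e), ← lift_fst_snd, comp_lift, h.lift_snd]]
    exact h.lift_fst _ _ _
  · have : lift g x₂ = h.lift x₁ x₂ e := h.hom_ext (by rw [hg, h.lift_fst]) (by rw [lift_snd, h.lift_snd])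
    rw [← this, lift_fst]

/-- The composite of torsors along a split extension is a pseudo-torsor. -/
theorem isPullback_comp (iN : N ⟶ G) [IsMonHom iN] [Mono iN] (q : G ⟶ Q) [IsMonHom q] (hker : AlgGrp.IsKernel iN q)
    (iH : H ⟶ G) [IsIso (iH ≫ q)] (a : AlgGrp.Action G X) (φ₁ : X ⟶ Y)
    (h₁ : IsPullback (a.restrict iN).act (snd N X) φ₁ φ₁)
    (aY : AlgGrp.Action Q Y) (hequiv : (q ⊗ₘ φ₁) ≫ aY.act = a.act ≫ φ₁)
    (φ₂ : Y ⟶ Z) (h₂ : IsPullback aY.act (snd Q Y) φ₂ φ₂) :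
    IsPullback a.act (snd G X) (φ₁ ≫ φ₂) (φ₁ ≫ φ₂) := by
  have heq : ∀ {T : Over S} (g : T ⟶ G) (x : T ⟶ X),
      (lift g x ≫ a.act) ≫ φ₁ = lift (g ≫ q) (x ≫ φ₁) ≫ aY.act := fun g x => by
    rw [Category.assoc, ← hequiv, lift_map_assoc]
  have hres : ∀ {T : Over S} (n : T ⟶ N) (x : T ⟶ X),
      lift n x ≫ (a.restrict iN).act = lift (n ≫ iN) x ≫ a.act := fun n x => by
    rw [AlgGrp.Action.restrict_act, lift_whiskerRight_assoc]
  refine isPullback_of_existsUnique a _ (by rw [← Category.assoc, ← hequiv, Category.assoc, h₂.w, ← Category.assoc,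
    tensorHom_snd, Category.assoc]) fun T x₁ x₂ e => ?_
  obtain ⟨q₀, hq₀, hu₀⟩ := existsUnique_of_isPullback aY h₂ (x₁ ≫ φ₁) (x₂ ≫ φ₁)
    (by rw [Category.assoc, Category.assoc, e])
  let s := (q₀ ≫ inv (iH ≫ q)) ≫ iH
  have hs : s ≫ q = q₀ := by simp [s]
  have hsx : (lift s x₂ ≫ a.act) ≫ φ₁ = x₁ ≫ φ₁ := by rw [heq, hs, hq₀]
  obtain ⟨n, hn, hun⟩ := existsUnique_of_isPullback (a.restrict iN) h₁ x₁ (lift s x₂ ≫ a.act) hsx.symm
  refine ⟨n ≫ iN * s, ?_, fun g hg => ?_⟩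
  · dsimp only
    rw [mul_act', ← hres, hn]
  have hgq : g ≫ q = q₀ := hu₀ _ (by dsimp only; rw [← heq, hg])
  have h3 : (g * s⁻¹) ≫ q = 1 := by
    rw [MonObj.mul_comp, GrpObj.inv_comp, hgq, hs, mul_inv_cancel]
  have hker' : IsPullback iN (toUnit N) q η[Q] := hker
  let m := hker'.lift (g * s⁻¹) (toUnit T) (by rw [h3, Hom.one_def])
  have hm : m ≫ iN = g * s⁻¹ := hker'.lift_fst _ _ _
  have : m = n := hun m (by dsimp only; rw [hres, hm, ← mul_act', inv_mul_cancel_right, hg])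
  rw [← this, hm, inv_mul_cancel_right]

/-- Composites of fpqc locally trivial morphisms with torsors are fpqc locally trivial. -/
theorem isLocallyTrivialFor_comp {φ₁ : X ⟶ Y} {φ₂ : Y ⟶ Z}
    (h₁ : NonAbH1.IsLocallyTrivialFor Scheme.fpqcPrecoverage (Over.mk φ₁.left : Over Y.left))
    (h₂ : NonAbH1.IsLocallyTrivialFor Scheme.fpqcPrecoverage (Over.mk φ₂.left : Over Z.left)) :
    NonAbH1.IsLocallyTrivialFor Scheme.fpqcPrecoverage (Over.mk (φ₁ ≫ φ₂).left : Over Z.left) := by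
  obtain ⟨R₂, hR₂, hsec₂⟩ := h₂
  obtain ⟨R₁, hR₁, hsec₁⟩ := h₁
  obtain ⟨J₂, U₂, f₂, rfl⟩ := R₂.exists_eq_ofArrows
  obtain ⟨J₁, U₁, f₁, rfl⟩ := R₁.exists_eq_ofArrows
  choose s hs using fun i => hsec₂ (f₂ i) ⟨i⟩
  choose t ht using fun j => hsec₁ (f₁ j) ⟨j⟩
  refine ⟨_, Precoverage.comp_mem_coverings f₂ hR₂
    (fun i j => pullback.fst (s i) (f₁ j))
    (fun i => Precoverage.mem_coverings_of_isPullback f₁ hR₁ (s i) _ (fun j => pullback.snd (s i) (f₁ j))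
      fun j => IsPullback.of_hasPullback _ _), ?_⟩
  rintro S' _ ⟨⟨i, j⟩⟩
  refine ⟨pullback.snd (s i) (f₁ j) ≫ t j, ?_⟩
  show (pullback.snd (s i) (f₁ j) ≫ t j) ≫ φ₁.left ≫ φ₂.left = pullback.fst (s i) (f₁ j) ≫ f₂ i
  rw [Category.assoc, ← Category.assoc (t j) φ₁.left φ₂.left, show t j ≫ φ₁.left = f₁ j from ht j,
    ← Category.assoc, ← pullback.condition, Category.assoc]
  exact congrArg (pullback.fst (s i) (f₁ j) ≫ ·) (hs i)

end Groth.Agent.GIT36.Torsor
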