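import Groth.Agent.GIT36.Torsor.Comp
import Groth.Prelude.Def_GLinSh
import Groth.Agent.GIT36.Quot.Torsor
import Groth.Agent.GIT36.Quot.Pts
import Groth.Agent.ConsProp93.Basic
import Mathlib.AlgebraicGeometry.Morphisms.FlatDescent

/-!
Orbits and stabilisers through a torsor under a normal subgroup.
-/

set_option autoImplicit false
set_option backward.isDefEq.respectTransparency.types false
set_option linter.style.haveILetI false

universe u

open CategoryTheory CategoryTheory.Limits MonoidalCategory CartesianMonoidalCategory MonObj AlgebraicGeometry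
open Groth.Agent.AlgGrp79

namespace Groth.Agent.GIT36.Torsor

variable {S : Scheme.{u}} {G N H X Y : Over S} [GrpObj G] [GrpObj N] [GrpObj H]

theorem range_fst_of_isPullback {A B C D : Scheme.{u}} {p : A ⟶ B} {q : A ⟶ C} {f : B ⟶ D} {g : C ⟶ D}
    (h : IsPullback p q f g) : Set.range p = f ⁻¹' Set.range g := by
  rw [← Scheme.Pullback.range_fst, ← h.isoPullback_hom_fst, Scheme.Hom.comp_base]
  simp [Set.range_comp, Set.range_eq_univ.2 h.isoPullback.hom.surjective]

theorem surjective_left_of_isPullback {A B C D : Over S} {p : A ⟶ B} {q : A ⟶ C} {f : B ⟶ D} {g : C ⟶ D}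
    (h : IsPullback p q f g) [Surjective g.left] : Surjective p.left :=
  MorphismProperty.of_isPullback (P := @Surjective) (h.map (Over.forget S)).flip ‹Surjective g.left›

theorem psi_fst (a : AlgGrp.Action G X) {P T : Over S} (x : P ⟶ X) (w : T ⟶ G ⊗ P) :
    w ≫ GIT.psi a x = lift (lift (w ≫ fst G P) (w ≫ snd G P ≫ x) ≫ a.act) (w ≫ snd G P) := by
  conv_lhs => rw [show w = lift (w ≫ fst G P) (w ≫ snd G P) from by
    rw [← comp_lift, lift_fst_snd, Category.comp_id]]
  rw [GIT.psi, comp_lift, lift_snd, lift_whiskerLeft_assoc, Category.assoc]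

variable (iN : N ⟶ G) [IsMonHom iN] [Mono iN] (q : G ⟶ H) [IsMonHom q]
  (a : AlgGrp.Action G X) (φ : X ⟶ Y) (aY : AlgGrp.Action H Y)

theorem psi_natural (hequiv : (q ⊗ₘ φ) ≫ aY.act = a.act ≫ φ) {P : Over S} (x : P ⟶ X) :
    GIT.psi a x ≫ (φ ▷ P) = (q ▷ P) ≫ GIT.psi aY (x ≫ φ) := by
  have key : ∀ {T : Over S} (g : T ⟶ G) (t : T ⟶ P),
      lift g t ≫ GIT.psi a x ≫ (φ ▷ P) = lift g t ≫ (q ▷ P) ≫ GIT.psi aY (x ≫ φ) := by
    intro T g t
    rw [← Category.assoc, ← Category.assoc, psi_fst, lift_whiskerRight, lift_whiskerRight, psi_fst, lift_fst,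
      lift_snd, lift_fst, lift_snd, ← Category.assoc (lift g t) (snd G P) x, lift_snd,
      ← Category.assoc (lift (g ≫ q) t) (snd H P), lift_snd, Category.assoc, ← hequiv, lift_map_assoc,
      Category.assoc]
  have h := key (fst G P) (snd G P)
  rwa [lift_fst_snd, Category.id_comp, Category.id_comp] at h

variable {iN q a φ aY}

/-- The translate of a point by the kernel lies over the same point. -/
theorem exists_translate (hker : iN ≫ q = toUnit N ≫ η[H]) (hcart : IsPullback (a.restrict iN).act (snd N X) φ φ)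
    {T : Over S} (g : T ⟶ G) (x x' : T ⟶ X) (e : x' ≫ φ = (lift g x ≫ a.act) ≫ φ) :
    ∃ g' : T ⟶ G, g' ≫ q = g ≫ q ∧ lift g' x ≫ a.act = x' := by
  obtain ⟨n, hn, -⟩ := existsUnique_of_isPullback (a.restrict iN) hcart x' (lift g x ≫ a.act) e
  refine ⟨n ≫ iN * g, ?_, ?_⟩
  · rw [MonObj.mul_comp, Category.assoc, hker, ← Category.assoc, toUnit_unique (n ≫ toUnit N) (toUnit T), ← Hom.one_def,
      _root_.one_mul]
  · rw [mul_act']
    rwa [AlgGrp.Action.restrict_act, lift_whiskerRight_assoc] at hn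

/-- The orbit is the full preimage of the orbit of the image. -/
theorem range_psi_eq (hker : iN ≫ q = toUnit N ≫ η[H]) (hcart : IsPullback (a.restrict iN).act (snd N X) φ φ)
    (hequiv : (q ⊗ₘ φ) ≫ aY.act = a.act ≫ φ) {P : Over S} (x : P ⟶ X) [Surjective (q ▷ P).left] :
    Set.range (GIT.psi a x).left = (φ ▷ P).left ⁻¹' Set.range (GIT.psi aY (x ≫ φ)).left := by
  refine Set.Subset.antisymm ?_ ?_
  · rintro _ ⟨w, rfl⟩
    refine ⟨(q ▷ P).left w, ?_⟩
    rw [← Scheme.Hom.comp_apply, ← Scheme.Hom.comp_apply, ← Over.comp_left, ← Over.comp_left,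
      psi_natural q a φ aY hequiv x]
  · let f := (φ ▷ P)
    let g := GIT.psi aY (x ≫ φ)
    have h1 := IsPullback.of_hasPullback f g
    have h2 := IsPullback.of_hasPullback (pullback.snd f g) (q ▷ P)
    have h1' := range_fst_of_isPullback (h1.map (Over.forget S))
    simp only [Over.forget_map] at h1'
    haveI := surjective_left_of_isPullback h2
    intro z₀ hz₀
    obtain ⟨z, rfl⟩ := h1'.ge hz₀
    obtain ⟨z, rfl⟩ := (pullback.fst (pullback.snd f g) (q ▷ P)).left.surjective z
    let w : pullback (pullback.snd f g) (q ▷ P) ⟶ X ⊗ P := pullback.fst (pullback.snd f g) (q ▷ P) ≫ pullback.fst f g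
    let v := pullback.snd (pullback.snd f g) (q ▷ P)
    have hwv : w ≫ (φ ▷ P) = v ≫ GIT.psi a x ≫ (φ ▷ P) := by
      simp only [w, Category.assoc]
      rw [psi_natural q a φ aY hequiv x, pullback.condition, ← Category.assoc, pullback.condition, Category.assoc]
    have ht : w ≫ snd X P = v ≫ snd G P := by
      have h3 := congrArg (· ≫ snd Y P) hwv
      simp only [Category.assoc, whiskerRight_snd] at h3
      rw [h3, GIT.psi, lift_snd]
    have hφ : (w ≫ fst X P) ≫ φ = (lift (v ≫ fst G P) (v ≫ snd G P ≫ x) ≫ a.act) ≫ φ := by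
      have h3 := congrArg (· ≫ fst Y P) hwv
      simp only [Category.assoc, whiskerRight_fst] at h3
      rw [← Category.assoc v, psi_fst, ← Category.assoc, ← Category.assoc, lift_fst, ← Category.assoc] at h3
      exact h3
    obtain ⟨g', -, hg'⟩ := exists_translate hker hcart (v ≫ fst G P) (v ≫ snd G P ≫ x) (w ≫ fst X P) hφ
    have hw : lift g' (v ≫ snd G P) ≫ GIT.psi a x = w := by
      rw [psi_fst, lift_fst, lift_snd, ← Category.assoc (lift g' (v ≫ snd G P)), lift_snd, Category.assoc, hg', ← ht]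
      apply CartesianMonoidalCategory.hom_ext <;> simp
    refine ⟨(lift g' (v ≫ snd G P)).left z, ?_⟩
    rw [← Scheme.Hom.comp_apply, ← Over.comp_left, hw]
    exact Scheme.Hom.comp_apply _ _ z

/-- The stabiliser maps bijectively on points to the stabiliser of the image. -/
theorem finite_stab_iff (hker : IsPullback iN (toUnit N) q η[H]) (hcart : IsPullback (a.restrict iN).act (snd N X) φ φ)
    (hequiv : (q ⊗ₘ φ) ≫ aY.act = a.act ≫ φ) {P : Over S} (x : P ⟶ X) [Surjective (q ▷ P).left] :
    Finite (GLinSh.stab a x) ↔ Finite (GLinSh.stab aY (x ≫ φ)) := by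
  let A := pullback (GIT.psi a x) (lift x (𝟙 P))
  let B := pullback (GIT.psi aY (x ≫ φ)) (lift (x ≫ φ) (𝟙 P))
  have eA : GLinSh.stab a x ≅ A.left :=
    ((IsPullback.of_hasPullback (GIT.psi a x) (lift x (𝟙 P))).map (Over.forget S)).isoPullback.symm
  have eB : GLinSh.stab aY (x ≫ φ) ≅ B.left :=
    ((IsPullback.of_hasPullback (GIT.psi aY (x ≫ φ)) (lift (x ≫ φ) (𝟙 P))).map (Over.forget S)).isoPullback.symm
  rw [eA.hom.homeomorph.toEquiv.finite_iff, eB.hom.homeomorph.toEquiv.finite_iff]
  let Φ : A ⟶ B := pullback.lift (pullback.fst _ _ ≫ (q ▷ P)) (pullback.snd _ _) (by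
    rw [Category.assoc, ← psi_natural q a φ aY hequiv x, ← Category.assoc, pullback.condition, Category.assoc,
      lift_whiskerRight])
  have coords : ∀ {T : Over S} (m : T ⟶ A),
      lift (m ≫ pullback.fst (GIT.psi a x) (lift x (𝟙 P)) ≫ fst G P)
          (m ≫ pullback.snd (GIT.psi a x) (lift x (𝟙 P)) ≫ x) ≫ a.act =
        m ≫ pullback.snd (GIT.psi a x) (lift x (𝟙 P)) ≫ x ∧
      m ≫ pullback.fst (GIT.psi a x) (lift x (𝟙 P)) ≫ snd G P =
        m ≫ pullback.snd (GIT.psi a x) (lift x (𝟙 P)) := by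
    intro T m
    have h := congrArg (m ≫ ·) (pullback.condition (f := GIT.psi a x) (g := lift x (𝟙 P)))
    simp only [← Category.assoc] at h
    rw [psi_fst, comp_lift, Category.comp_id] at h
    simp only [Category.assoc] at h
    have h1 := congrArg (· ≫ fst X P) h
    have h2 := congrArg (· ≫ snd X P) h
    simp only [lift_fst, lift_snd] at h1 h2
    have hx2 := congrArg (· ≫ x) h2
    simp only [Category.assoc] at hx2
    refine ⟨?_, h2⟩
    rwa [hx2] at h1
  have hΦfst : Φ ≫ pullback.fst _ _ = pullback.fst (GIT.psi a x) (lift x (𝟙 P)) ≫ (q ▷ P) := pullback.lift_fst _ _ _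
  have hΦsnd : Φ ≫ pullback.snd _ _ = pullback.snd (GIT.psi a x) (lift x (𝟙 P)) := pullback.lift_snd _ _ _
  haveI : Mono Φ := by
    refine ⟨fun {T} m m' e => pullback.hom_ext ?_ ?_⟩
    · have hs : m ≫ pullback.snd (GIT.psi a x) (lift x (𝟙 P)) = m' ≫ pullback.snd (GIT.psi a x) (lift x (𝟙 P)) := by
        have := congrArg (· ≫ pullback.snd _ _) e
        simpa only [Category.assoc, hΦsnd] using this
      have hq : (m ≫ pullback.fst (GIT.psi a x) (lift x (𝟙 P)) ≫ fst G P) ≫ q =
          (m' ≫ pullback.fst (GIT.psi a x) (lift x (𝟙 P)) ≫ fst G P) ≫ q := by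
        have := congrArg (fun t => t ≫ pullback.fst _ _ ≫ fst H P) e
        simpa only [Category.assoc, reassoc_of% hΦfst, whiskerRight_fst] using this
      obtain ⟨h1, h2⟩ := coords m
      obtain ⟨h1', h2'⟩ := coords m'
      let g := m ≫ pullback.fst (GIT.psi a x) (lift x (𝟙 P)) ≫ fst G P
      let g' := m' ≫ pullback.fst (GIT.psi a x) (lift x (𝟙 P)) ≫ fst G P
      have hgq : (g'⁻¹ * g) ≫ q = 1 := by
        show ((m' ≫ pullback.fst (GIT.psi a x) (lift x (𝟙 P)) ≫ fst G P)⁻¹ *
          (m ≫ pullback.fst (GIT.psi a x) (lift x (𝟙 P)) ≫ fst G P)) ≫ q = 1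
        rw [MonObj.mul_comp, GrpObj.inv_comp, hq, inv_mul_cancel]
      let n := hker.lift (g'⁻¹ * g) (toUnit T) (by rw [hgq, Hom.one_def])
      have hn : n ≫ iN = g'⁻¹ * g := hker.lift_fst _ _ _
      let xT := m ≫ pullback.snd (GIT.psi a x) (lift x (𝟙 P)) ≫ x
      have hn1 : n = 1 := by
        refine (existsUnique_of_isPullback (a.restrict iN) hcart xT xT rfl).unique ?_ ?_
        · beta_reduce
          rw [AlgGrp.Action.restrict_act, lift_whiskerRight_assoc, hn, mul_act']
          have hx' : lift g' xT ≫ a.act = xT := by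
            simpa only [xT, g', ← Category.assoc, hs] using h1'
          rw [show lift g xT ≫ a.act = xT from h1]
          conv_lhs => rw [← hx']
          exact inv_act_act a g' xT
        · beta_reduce
          exact one_act' _ _
      have hgg : g = g' := by
        rw [hn1, MonObj.one_comp] at hn
        exact (inv_mul_eq_one.1 hn.symm).symm
      apply CartesianMonoidalCategory.hom_ext
      · simpa [g, g'] using hgg
      · simp only [Category.assoc]; rw [h2, h2', hs]
    · have := congrArg (· ≫ pullback.snd _ _) e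
      simpa only [Category.assoc, hΦsnd] using this
  have hsurj : Function.Surjective Φ.left := by
    intro b
    have hQ := IsPullback.of_hasPullback (pullback.fst (GIT.psi aY (x ≫ φ)) (lift (x ≫ φ) (𝟙 P))) (q ▷ P)
    haveI := surjective_left_of_isPullback hQ
    obtain ⟨z, rfl⟩ := (pullback.fst (pullback.fst (GIT.psi aY (x ≫ φ)) (lift (x ≫ φ) (𝟙 P))) (q ▷ P)).left.surjective b
    let β := pullback.fst (pullback.fst (GIT.psi aY (x ≫ φ)) (lift (x ≫ φ) (𝟙 P))) (q ▷ P)
    let v := pullback.snd (pullback.fst (GIT.psi aY (x ≫ φ)) (lift (x ≫ φ) (𝟙 P))) (q ▷ P)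
    let t := β ≫ pullback.snd (GIT.psi aY (x ≫ φ)) (lift (x ≫ φ) (𝟙 P))
    have hv : v ≫ (q ▷ P) = β ≫ pullback.fst (GIT.psi aY (x ≫ φ)) (lift (x ≫ φ) (𝟙 P)) := pullback.condition.symm
    have hc : v ≫ GIT.psi a x ≫ (φ ▷ P) = lift (t ≫ x ≫ φ) t := by
      rw [psi_natural q a φ aY hequiv x, ← Category.assoc, hv, Category.assoc, pullback.condition, ← Category.assoc,
        comp_lift, Category.comp_id]
    rw [← Category.assoc, psi_fst, lift_whiskerRight] at hc
    have hc1 := congrArg (· ≫ fst Y P) hc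
    have hc2 := congrArg (· ≫ snd Y P) hc
    simp only [lift_fst, lift_snd] at hc1 hc2
    rw [← Category.assoc v (snd G P) x, hc2, ← Category.assoc t x φ] at hc1
    obtain ⟨g', hg'q, hg'⟩ := exists_translate hker.w hcart (v ≫ fst G P) (t ≫ x) (t ≫ x) hc1.symm
    let α : pullback (pullback.fst (GIT.psi aY (x ≫ φ)) (lift (x ≫ φ) (𝟙 P))) (q ▷ P) ⟶ A :=
      pullback.lift (lift g' t) t (by
        rw [psi_fst, lift_fst, lift_snd, ← Category.assoc (lift g' t), lift_snd, hg', comp_lift, Category.comp_id])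
    have hαΦ : α ≫ Φ = β := by
      apply pullback.hom_ext
      · rw [Category.assoc, hΦfst, ← Category.assoc, pullback.lift_fst, lift_whiskerRight, ← hv]
        apply CartesianMonoidalCategory.hom_ext
        · simp only [lift_fst, Category.assoc, whiskerRight_fst]; rw [hg'q, Category.assoc]
        · simp only [lift_snd, Category.assoc, whiskerRight_snd]; exact hc2.symm
      · rw [Category.assoc, hΦsnd, pullback.lift_snd]
    exact ⟨α.left z, by rw [← Scheme.Hom.comp_apply, ← Over.comp_left, hαΦ]⟩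
  haveI : Mono Φ.left := (inferInstance : Mono ((Over.forget S).map Φ))
  exact (Equiv.ofBijective Φ.left ⟨Φ.left.injective, hsurj⟩).finite_iff

end Groth.Agent.GIT36.Torsor
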