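import Groth.Agent.GIT36.Torsor.Orbit

/-!
Closed orbits with finite stabilisers correspond through a torsor under a normal subgroup.
-/

set_option autoImplicit false
set_option backward.isDefEq.respectTransparency.types false
set_option linter.style.haveILetI false

universe u

open CategoryTheory CategoryTheory.Limits MonoidalCategory CartesianMonoidalCategory MonObj AlgebraicGeometry

namespace Groth.Agent.GIT36.Torsor

variable {S : Scheme.{u}}

theorem lft_psi {G X P : Over S} [GrpObj G] [LocallyOfFiniteType G.hom] (a : AlgGrp.Action G X) (x : P ⟶ X) :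
    LocallyOfFiniteType (GIT.psi a x).left := by
  haveI : LocallyOfFiniteType (snd G P).left := inferInstanceAs (LocallyOfFiniteType (pullback.snd G.hom P.hom))
  haveI : LocallyOfFiniteType ((GIT.psi a x).left ≫ (snd X P).left) := by
    rw [← Over.comp_left, GIT.psi, lift_snd]; infer_instance
  exact locallyOfFiniteType_of_comp (GIT.psi a x).left (snd X P).left

theorem isFinite_stabTo_iff {G X P : Over S} [GrpObj G] [LocallyOfFiniteType G.hom] (a : AlgGrp.Action G X)
    (x : P ⟶ X) [IsNoetherian (G ⊗ P).left] [IsIntegral P.left] [Subsingleton P.left] :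
    IsFinite (GLinSh.stabTo a x) ↔ Finite (GLinSh.stab a x) := by
  haveI := lft_psi a x
  haveI : QuasiCompact (GIT.psi a x).left := inferInstance
  haveI : LocallyOfFiniteType (GLinSh.stabTo a x) :=
    MorphismProperty.pullback_snd (P := @LocallyOfFiniteType) _ _ inferInstance
  haveI : QuasiCompact (GLinSh.stabTo a x) := MorphismProperty.pullback_snd (P := @QuasiCompact) _ _ inferInstance
  exact ConsProp93.isFinite_iff_finite _

theorem isNoetherian_tensor {G P : Over S} [GrpObj G] [LocallyOfFiniteType G.hom] [IsAffineHom G.hom]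
    [IsNoetherian P.left] : IsNoetherian (G ⊗ P).left := by
  haveI : LocallyOfFiniteType (snd G P).left := inferInstanceAs (LocallyOfFiniteType (pullback.snd G.hom P.hom))
  haveI : IsAffineHom (snd G P).left := MorphismProperty.pullback_snd (P := @IsAffineHom) G.hom P.hom inferInstance
  haveI := LocallyOfFiniteType.isLocallyNoetherian (snd G P).left
  haveI : CompactSpace (G ⊗ P).left := QuasiCompact.compactSpace_of_compactSpace (snd G P).left
  exact ⟨⟩

/-- Orbit closed with finite stabiliser, upstairs and downstairs. -/
theorem orbitClosed_and_stabFinite_iff {G N H X Y P : Over S} [GrpObj G] [GrpObj N] [GrpObj H]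
    [LocallyOfFiniteType G.hom] [IsAffineHom G.hom] [LocallyOfFiniteType H.hom] [IsAffineHom H.hom]
    (iN : N ⟶ G) [IsMonHom iN] [Mono iN] [IsAffineHom N.hom] [Flat N.hom]
    (q : G ⟶ H) [IsMonHom q] [Surjective q.left] (hker : AlgGrp.IsKernel iN q)
    (a : AlgGrp.Action G X) (φ : X ⟶ Y) (hcart : IsPullback (a.restrict iN).act (snd N X) φ φ)
    (hloc : NonAbH1.IsLocallyTrivialFor Scheme.fpqcPrecoverage (Over.mk φ.left : Over Y.left))
    (aY : AlgGrp.Action H Y) (hequiv : (q ⊗ₘ φ) ≫ aY.act = a.act ≫ φ)
    [IsNoetherian P.left] [IsIntegral P.left] [Subsingleton P.left] (x : P ⟶ X) :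
    (IsClosed (Set.range (GIT.psi a x).left.base) ∧ IsFinite (GLinSh.stabTo a x)) ↔
      (IsClosed (Set.range (GIT.psi aY (x ≫ φ)).left.base) ∧ IsFinite (GLinSh.stabTo aY (x ≫ φ))) := by
  have := Unr55.isAffineHom.{u}
  have := Sga84.flat_descendsAlong.{u}
  haveI : IsAffineHom φ.left := Quot.prop_of_torsor @IsAffineHom inferInstance hcart hloc
  haveI : Flat φ.left := Quot.prop_of_torsor @Flat inferInstance hcart hloc
  haveI : Surjective φ.left := Sga84.surjective_of_isLocallyTrivialFor (X := Over.mk φ.left) hloc
  have hφP := (Quot.isPullback_whiskerRight_left P φ)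
  haveI : Flat (φ ▷ P).left := MorphismProperty.of_isPullback (P := @Flat) hφP.flip inferInstance
  haveI : IsAffineHom (φ ▷ P).left := MorphismProperty.of_isPullback (P := @IsAffineHom) hφP.flip inferInstance
  haveI : Surjective (φ ▷ P).left := MorphismProperty.of_isPullback (P := @Surjective) hφP.flip inferInstance
  haveI : Surjective (q ▷ P).left :=
    MorphismProperty.of_isPullback (P := @Surjective) (Quot.isPullback_whiskerRight_left P q).flip inferInstance
  haveI := isNoetherian_tensor (G := G) (P := P)
  haveI := isNoetherian_tensor (G := H) (P := P)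
  rw [isFinite_stabTo_iff a x, isFinite_stabTo_iff aY (x ≫ φ), finite_stab_iff hker hcart hequiv x,
    range_psi_eq hker.w hcart hequiv x, (Flat.isQuotientMap_of_surjective (φ ▷ P).left).isClosed_preimage]

end Groth.Agent.GIT36.Torsor
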